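import Mathlib
import Groth.Prelude.Def_EGA41

/-!
# Formal smoothness for the adic topologies and discrete formal smoothness
-/

set_option autoImplicit false
set_option backward.isDefEq.respectTransparency false
set_option backward.isDefEq.respectTransparency.types false

universe u

open IsLocalRing TensorProduct

namespace GrothLib.AdicFSDiscrete

open EGA41

/-- Discrete formal smoothness implies formal smoothness for any adic topologies. -/
theorem isFormallySmoothAdic_of_formallySmooth (A B : Type u) [CommRing A] [CommRing B] [Algebra A B]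
    [Algebra.FormallySmooth A B] (𝔞 : Ideal A) (𝔟 : Ideal B) : IsFormallySmoothAdic A 𝔞 B 𝔟 :=
  fun C _ _ J hJ _ u _ => ⟨Algebra.FormallySmooth.lift J hJ u, Algebra.FormallySmooth.comp_lift J hJ u⟩

variable {A B : Type u} [CommRing A] [IsLocalRing A] [CommRing B] [IsLocalRing B] [Algebra A B]
  [IsLocalHom (algebraMap A B)]

/-- A local algebra, quotient of a formally smooth local algebra with finite free differentials, is
formally smooth as soon as it is formally smooth for the adic topologies. -/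
theorem formallySmooth_of_surjective (P : Type u) [CommRing P] [IsLocalRing P] [IsNoetherianRing P]
    [Algebra A P] [Algebra P B] [IsScalarTower A P B] [Algebra.FormallySmooth A P]
    [Module.Free P Ω[P⁄A]] [Module.Finite P Ω[P⁄A]] (hsur : Function.Surjective (algebraMap P B))
    (h : IsFormallySmoothAdic A (maximalIdeal A) B (maximalIdeal B)) : Algebra.FormallySmooth A B := by
  let P' : Algebra.Extension A B := { Ring := P, σ := _, algebraMap_σ := Function.surjInv_eq hsur }
  haveI : Algebra.FormallySmooth A P'.Ring := ‹Algebra.FormallySmooth A P›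
  haveI : Module.Free P'.Ring Ω[P'.Ring⁄A] := ‹Module.Free P Ω[P⁄A]›
  haveI : Module.Finite P'.Ring Ω[P'.Ring⁄A] := ‹Module.Finite P Ω[P⁄A]›
  rw [Algebra.FormallySmooth.iff_injective_lTensor_residueField P' (IsNoetherian.noetherian (R := P) _)]
  rw [injective_iff_map_eq_zero]
  intro z hz
  have hsimple : ∀ z : ResidueField B ⊗[B] P'.Cotangent, ∃ c, z = (1 : ResidueField B) ⊗ₜ[B] c := by
    intro z
    induction z using TensorProduct.induction_on with
    | zero => exact ⟨0, (TensorProduct.tmul_zero _ _).symm⟩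
    | tmul a c =>
      obtain ⟨b, rfl⟩ := residue_surjective a
      exact ⟨b • c, by
        rw [← TensorProduct.smul_tmul, Algebra.smul_def, mul_one]
        rfl⟩
    | add a b ha hb =>
      obtain ⟨c₁, rfl⟩ := ha
      obtain ⟨c₂, rfl⟩ := hb
      exact ⟨c₁ + c₂, (TensorProduct.tmul_add _ _ _).symm⟩
  obtain ⟨c, rfl⟩ := hsimple z
  obtain ⟨⟨e, he⟩, rfl⟩ := Algebra.Extension.Cotangent.mk_surjective c
  let 𝔪 : Ideal P := maximalIdeal P
  let I : Ideal P := RingHom.ker (algebraMap P B)
  have hI : I ≤ 𝔪 := le_maximalIdeal (RingHom.ker_ne_top _)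
  -- the coordinates of the differential lie in the maximal ideal
  let bas := Module.Free.chooseBasis P Ω[P⁄A]
  have hcoord : ∀ i, bas.repr (KaehlerDifferential.D A P e) i ∈ 𝔪 := by
    intro i
    let coord : B ⊗[P] Ω[P⁄A] →ₗ[B] B :=
      LinearMap.liftBaseChange B ((Algebra.linearMap P B).comp (bas.coord i))
    have h0 := congrArg (TensorProduct.lift ((LinearMap.mul B (ResidueField B)).compl₂
      ((Algebra.linearMap B (ResidueField B)).comp coord))) hz
    rw [LinearMap.lTensor_tmul, Algebra.Extension.cotangentComplex_mk, map_zero] at h0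
    simp only [TensorProduct.lift.tmul, LinearMap.compl₂_apply, LinearMap.mul_apply', one_mul,
      LinearMap.comp_apply, Algebra.linearMap_apply] at h0
    erw [LinearMap.liftBaseChange_tmul, one_smul] at h0
    refine (mem_maximalIdeal _).2 fun hu => ?_
    exact residue_ne_zero_iff_isUnit _ |>.2 (hu.map (algebraMap P B)) h0
  -- the Artinian test algebra
  obtain ⟨k, hk⟩ := Ideal.exists_pow_inf_eq_pow_smul (M := P) 𝔪 I
  let n := k + 1
  have hAR : 𝔪 ^ n ⊓ I ≤ 𝔪 * I := by
    have := hk n (Nat.le_succ k)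
    simp only [n, Nat.add_sub_cancel_left, pow_one, Ideal.smul_eq_mul, Ideal.mul_top] at this
    rw [this]
    exact Ideal.mul_mono_right inf_le_right
  let Q : Ideal P := 𝔪 * I ⊔ 𝔪 ^ n
  let K : Ideal P := I ⊔ 𝔪 ^ n
  let J : Ideal (P ⧸ Q) := K.map (Ideal.Quotient.mk Q)
  have hKm : K ≤ 𝔪 := sup_le hI (Ideal.pow_le_self k.succ_ne_zero)
  have hJ2 : J ^ 2 = ⊥ := by
    rw [← Ideal.map_pow, eq_bot_iff, Ideal.map_le_iff_le_comap, ← RingHom.ker_eq_comap_bot,
      Ideal.mk_ker, pow_two]
    calc K * K ≤ 𝔪 * K := Ideal.mul_mono_left hKm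
      _ = 𝔪 * I ⊔ 𝔪 * 𝔪 ^ n := Ideal.mul_sup _ _ _
      _ ≤ Q := sup_le le_sup_left (le_sup_of_le_right (by
        rw [← pow_succ']; exact Ideal.pow_le_pow_right (Nat.le_succ n)))
  have hJm : ∀ (c : P), c ∈ 𝔪 → ∀ x : J, c • x = 0 := by
    intro c hc x
    obtain ⟨y, hy, hyx⟩ := (Ideal.mem_map_iff_of_surjective _ Ideal.Quotient.mk_surjective).1 x.2
    refine Subtype.ext ?_
    change c • (x : P ⧸ Q) = 0
    rw [← hyx, Algebra.smul_def, Ideal.Quotient.algebraMap_eq, ← map_mul, Ideal.Quotient.eq_zero_iff_mem]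
    have : 𝔪 * K ≤ Q := by
      rw [Ideal.mul_sup]
      exact sup_le le_sup_left (le_sup_of_le_right Ideal.mul_le_right)
    exact this (Ideal.mul_mem_mul hc hy)
  -- the map to be lifted
  let q : P →ₐ[A] (P ⧸ Q) ⧸ J := (Ideal.Quotient.mkₐ A J).comp (Ideal.Quotient.mkₐ A Q)
  have hker : RingHom.ker (IsScalarTower.toAlgHom A P B).toRingHom ≤ RingHom.ker q.toRingHom := fun x hx => by
    refine Ideal.Quotient.eq_zero_iff_mem.2 (Ideal.mem_map_of_mem _ (Ideal.mem_sup_left ?_))
    exact hx
  let u : B →ₐ[A] (P ⧸ Q) ⧸ J := AlgHom.liftOfSurjective (IsScalarTower.toAlgHom A P B) hsur q hker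
  have hu : ∀ x, u (algebraMap P B x) = q x := fun x =>
    AlgHom.liftOfSurjective_apply (IsScalarTower.toAlgHom A P B) hsur q hker x
  have hm : (maximalIdeal P).map (algebraMap P B) = maximalIdeal B := by
    haveI := IsLocalHom.of_surjective (algebraMap P B) hsur
    refine le_antisymm (Ideal.map_le_iff_le_comap.2 fun x hx => (mem_maximalIdeal _).2 fun hu => (mem_maximalIdeal _).1 hx (IsLocalHom.map_nonunit x hu)) fun b hb => ?_
    obtain ⟨x, rfl⟩ := hsur b
    refine Ideal.mem_map_of_mem _ ((mem_maximalIdeal _).2 fun hx => (mem_maximalIdeal _).1 hb (hx.map _))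
  have hA : ((maximalIdeal A).map (algebraMap A P)) ≤ 𝔪 := Ideal.map_le_iff_le_comap.2 fun a ha => by
    refine (mem_maximalIdeal _).2 fun hu => (mem_maximalIdeal _).1 ha ?_
    exact IsLocalHom.map_nonunit (f := algebraMap A B) a (by
      rw [IsScalarTower.algebraMap_apply A P B]; exact hu.map _)
  obtain ⟨v, hv⟩ := h (P ⧸ Q) J ⟨2, hJ2⟩ ⟨n, by
      rw [IsScalarTower.algebraMap_eq A P (P ⧸ Q), ← Ideal.map_map, eq_bot_iff, Ideal.map_le_iff_le_comap,
        ← RingHom.ker_eq_comap_bot, Ideal.Quotient.algebraMap_eq, Ideal.mk_ker, Ideal.map_pow]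
      exact le_sup_of_le_right (Ideal.pow_right_mono hA n)⟩ u ⟨n, fun x hx => by
      rw [← hm, ← Ideal.map_pow, Ideal.mem_map_iff_of_surjective _ hsur] at hx
      obtain ⟨y, hy, rfl⟩ := hx
      rw [hu]
      exact Ideal.Quotient.eq_zero_iff_mem.2 (Ideal.mem_map_of_mem _ (Ideal.mem_sup_right hy))⟩
  -- the derivation
  let g : P →ₐ[A] P ⧸ Q := v.comp (IsScalarTower.toAlgHom A P B)
  have hg : (Ideal.Quotient.mkₐ A J).comp g = IsScalarTower.toAlgHom A P ((P ⧸ Q) ⧸ J) :=
    AlgHom.ext fun x => (AlgHom.congr_fun hv (algebraMap P B x)).trans (hu x)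
  let δ : Derivation A P J := derivationToSquareZeroOfLift J hJ2 g hg
  have hδ : δ e = 0 := by
    rw [← Derivation.liftKaehlerDifferential_comp_D δ e, ← bas.linearCombination_repr
      (KaehlerDifferential.D A P e), Finsupp.linearCombination_apply, map_finsuppSum]
    refine Finset.sum_eq_zero fun i _ => ?_
    dsimp only
    rw [map_smul]
    exact hJm _ (hcoord i) _
  have hge : g e = 0 := by
    change v (algebraMap P B e) = 0
    rw [show algebraMap P B e = 0 from he, map_zero]
  have heQ : e ∈ Q := by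
    have := congrArg (Subtype.val) hδ
    rw [derivationToSquareZeroOfLift_apply, hge, zero_sub, ZeroMemClass.coe_zero, neg_eq_zero] at this
    exact Ideal.Quotient.eq_zero_iff_mem.1 this
  have heI : e ∈ 𝔪 * I := by
    obtain ⟨a, ha, b, hb, rfl⟩ := Submodule.mem_sup.1 heQ
    have haI : a ∈ I := Ideal.mul_le_right ha
    exact add_mem ha (hAR ⟨hb, by simpa using sub_mem (show a + b ∈ I from he) haI⟩)
  -- conclusion
  suffices ∀ x (hx : x ∈ 𝔪 * I),
      (1 : ResidueField B) ⊗ₜ[B] Algebra.Extension.Cotangent.mk (⟨x, Ideal.mul_le_right hx⟩ : P'.ker) = 0 from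
    this e heI
  intro x hx
  refine Submodule.mul_induction_on' (C := fun x _ => ∀ hxI : x ∈ P'.ker,
    (1 : ResidueField B) ⊗ₜ[B] Algebra.Extension.Cotangent.mk (⟨x, hxI⟩ : P'.ker) = 0) ?_ ?_ hx _
  · intro m hm i hi hxI
    have : (⟨m * i, hxI⟩ : P'.ker) = m • ⟨i, hi⟩ := rfl
    rw [this, LinearMap.map_smul, ← algebraMap_smul B m, TensorProduct.tmul_smul, TensorProduct.smul_tmul']
    rw [Algebra.smul_def, mul_one, show algebraMap B (ResidueField B) (algebraMap P'.Ring B m) = 0 from
      Ideal.Quotient.eq_zero_iff_mem.2 (by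
        haveI := IsLocalHom.of_surjective (algebraMap P B) hsur
        exact (mem_maximalIdeal _).2 fun hu => (mem_maximalIdeal _).1 hm (IsLocalHom.map_nonunit m hu)), TensorProduct.zero_tmul]
  · intro a ha b hb hai hbi hxI
    have : (⟨a + b, hxI⟩ : P'.ker) = ⟨a, Ideal.mul_le_right ha⟩ + ⟨b, Ideal.mul_le_right hb⟩ := rfl
    rw [this, map_add, TensorProduct.tmul_add, hai, hbi, add_zero]

/-- A localisation at a prime of a polynomial algebra over a Noetherian ring surjects onto each local
algebra essentially of finite type. -/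
theorem formallySmooth_of_adic [IsNoetherianRing A] [Algebra.EssFiniteType A B]
    (h : IsFormallySmoothAdic A (maximalIdeal A) B (maximalIdeal B)) : Algebra.FormallySmooth A B := by
  obtain ⟨σ, hσ⟩ := Algebra.EssFiniteType.cond (R := A) (S := B)
  rw [Algebra.essFiniteType_cond_iff] at hσ
  let f : MvPolynomial (σ : Set B) A →ₐ[A] B := MvPolynomial.aeval Subtype.val
  have hf : f.range = Algebra.adjoin A (σ : Set B) := by
    rw [← Algebra.adjoin_range_eq_range_aeval, Subtype.range_coe]
  let q : Ideal (MvPolynomial (σ : Set B) A) := (maximalIdeal B).comap f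
  haveI : q.IsPrime := inferInstance
  let P := Localization.AtPrime q
  let fP : P →ₐ[A] B := IsLocalization.liftAlgHom (M := q.primeCompl) (f := f) fun x => by
    by_contra hx
    exact x.2 ((mem_maximalIdeal _).2 hx)
  algebraize [fP.toRingHom]
  haveI : IsScalarTower A P B := IsScalarTower.of_algebraMap_eq fun a => (fP.commutes a).symm
  haveI : Algebra.FormallyEtale (MvPolynomial (σ : Set B) A) P := .of_isLocalization q.primeCompl
  haveI : Algebra.FormallySmooth A P := .comp _ (MvPolynomial (σ : Set B) A) _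
  haveI : Module.Free P Ω[P⁄A] :=
    .of_equiv (KaehlerDifferential.tensorKaehlerEquivOfFormallyEtale A (MvPolynomial (σ : Set B) A) P)
  haveI : Module.Finite P Ω[P⁄A] := inferInstance
  haveI : IsNoetherianRing P := IsLocalization.isNoetherianRing q.primeCompl P inferInstance
  refine formallySmooth_of_surjective P (fun b => ?_) h
  obtain ⟨t, ht, htu, hbt⟩ := hσ b
  rw [← hf] at ht hbt
  obtain ⟨s, hs⟩ := ht
  obtain ⟨y, hy⟩ := hbt
  have hsq : s ∈ q.primeCompl := fun hsq => (mem_maximalIdeal _).1 hsq (by rw [AlgHom.toRingHom_eq_coe] at hs; exact hs ▸ htu)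
  refine ⟨IsLocalization.mk' P y ⟨s, hsq⟩, ?_⟩
  change fP _ = b
  refine htu.mul_left_inj.1 ?_
  rw [← hy]
  have hs' : fP (algebraMap _ P s) = t := by simpa [fP] using hs
  rw [← hs', ← map_mul, IsLocalization.mk'_spec]
  simp [fP]

end GrothLib.AdicFSDiscrete
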